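import Mathlib
import Cfsg.Agent.Lib.O8.Defs
import Cfsg.Agent.Lib.ZN.Family
import Cfsg.Agent.Lib.QT5.FAM
import Cfsg.Agent.Lib.OFP.EndA

/-! Failure of factorization in solvable groups. -/

set_option autoImplicit false
set_option linter.unusedSectionVars false

namespace CfsgLib.O8

open Cfsg Subgroup CfsgLib.LAE CfsgLib.PLocal CfsgLib.ZJ CfsgLib.Blocks
open scoped CfsgLib.BG MatrixGroups commutatorElement

universe u

variable {G : Type*} [Group G] [Finite G]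

theorem ffs {N S : Subgroup G} (hs : Group.IsSolvable N) (hS : IsSylowIn 2 S N) (sc : Sc N) :
    ∃ U : Subgroup G, ZZ S ≤ U ∧ U ≤ pCoreOf 2 N ∧ IsElementaryAbelian 2 U ∧ N ≤ 𝒩(U) ∧
      (JJ S ≤ 𝒞(U) ∨ ∃ F, Fam N U (JJ S) F) := by
  have := Fact.mk Nat.prime_two
  have pr : PRedIn 2 (nclIn (omegaZ 2 S) N) N :=
    (pRedIn_omegaZ S).nclIn (inf_le_right.trans sc) hS le_rfl hS.le
  obtain ⟨F, k⟩ : ∃ F, QT5.Fm S N F := by
    have hf := N.subtype_injective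
    have eT : (⊤ : Subgroup N).map N.subtype = N := by rw [← MonoidHom.range_eq_map, range_subtype]
    have e := map_subgroupOf_eq_of_le hS.le
    obtain ⟨F, k⟩ := QT5.fam_top (T := S.subgroupOf N) hs (subgroupOf_self N ▸ hS.subgroupOf le_rfl)
      ((pRedIn_map_iff hf).1 (by rw [map_nclIn, map_omegaZ hf, eT, e]; exact pr))
    exact ⟨_, e ▸ k.map_subtype⟩
  refine ⟨_, le_nclIn _ _, pr.le_pCoreOf, pr.elemAb, pr.norm, ?_⟩
  have JK : JJ S ≤ nclIn (JJ S) N := le_nclIn _ _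
  have JS : JJ S ≤ S := thompsonSubgroupOf_le S
  have KN : nclIn (JJ S) N ≤ N := nclIn_le_of_le (JS.trans hS.le)
  have J2 : IsPGroup 2 (JJ S) := hS.isPGroup.to_le JS
  rcases F.eq_empty_or_nonempty with rfl | hne
  · refine .inl (le_centralizer_iff.1 (k.gen.trans (sup_le (inf_le_right.trans (centralizer_anti JK)) ?_)))
    rw [sSup_empty]
    exact bot_le
  have nc : ∀ W ∈ F, ¬ JJ S ≤ 𝒞(W) := fun W hW hc => by
    obtain ⟨Y, y1, -, y3, -⟩ := k.big W hW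
    have hSK := hS.inf_of_normal KN (le_normalizer_nclIn _ _)
    have eJ : JJ (S ⊓ nclIn (JJ S) N) = JJ S := thompsonSubgroupOf_eq_of_le inf_le_left (le_inf JS JK)
    have : nclIn (JJ S) N ≤ 𝒞(W) := nclIn_le_iff.2 fun n hn => by
      obtain ⟨a, ha, m, hm, rfl⟩ := hSK.frattini (le_normalizer_nclIn (JJ S) N hn)
      have h1 := normalizer_le_normalizer_thompsonSubgroupOf (p := 2) _ hm
      rw [show thompsonSubgroupOf 2 (S ⊓ nclIn (JJ S) N) = JJ S from eJ] at h1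
      rw [conjS_mul, mem_normalizer_iff_conjS.1 h1,
        ← mem_normalizer_iff_conjS.1 (le_normalizer_centralizer (k.jn W hW) ha)]
      exact conjS_mono hc
    rw [relIndex_eq_one.2 (y1.trans this)] at y3
    omega
  have c2 : ∀ W ∈ F, Nat.card ↥(W ⊓ 𝒞(JJ S)) = 2 := fun W hW =>
    (k.four W hW).card_inf_centralizer J2 (JK.trans (k.jn W hW)) (nc W hW)
  have fx : ∀ W ∈ F, ∃ u ∈ W ⊓ 𝒞(JJ S), u ≠ 1 ∧ ∀ v ∈ W ⊓ 𝒞(JJ S), v ≠ 1 → v = u := fun W hW => by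
    obtain ⟨⟨u, hu⟩, h1, h2⟩ := (Nat.card_eq_two_iff' (1 : ↥(W ⊓ 𝒞(JJ S)))).1 (c2 W hW)
    exact ⟨u, hu, fun e => h1 (Subtype.ext e), fun v hv v1 =>
      congrArg Subtype.val (h2 ⟨v, hv⟩ fun e => v1 (congrArg Subtype.val e))⟩
  refine .inr ⟨F, hne, k.le, fun W hW => (k.four W hW).card, fun W hW => ?_, nc, fun W hW => JK.trans (k.jn W hW),
    fun W hW n hn => k.conj n hn W hW, k.disj, fun P hP hPJ => ?_⟩
  · obtain ⟨u, hu, u1, -⟩ := fx W hW
    exact ⟨u, hu.1, u1, fun j hj => mem_centralizer_singleton_iff.2 (hu.2 j hj)⟩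
  · obtain ⟨W, hW⟩ := hne
    obtain ⟨u, hu, u1, hu'⟩ := fx W hW
    obtain ⟨Y, y1, -, y3, y4⟩ := k.big W hW
    obtain ⟨d, hd, e⟩ := QT5.ax_fpf (k.four W hW) (y1.trans (k.jn W hW)) y3
    have m : ∀ g ∈ P, g * u * g⁻¹ ∈ nclIn (omegaZ 2 S) N := fun g hg =>
      LAE.conj_mem_of_mem_normalizer (pr.norm (hP hg)) (k.le W hW hu.1)
    obtain ⟨x, hx, x1, hc⟩ := OFP.EndA.exists_prod (D := 𝒞[d]) (L := P) (w := u)
      (fun h => u1 (e.le (show u ∈ W ⊓ 𝒞[d] from ⟨hu.1, h⟩)))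
      (fun g hg g' hg' => elemAb_comm pr.elemAb (m g hg) (m g' hg')) m fun g hg hne => by
        have h1 : conjS g W ≠ W := fun e' => hne (hu' _ ⟨e' ▸ conj_mem_conjS.2 hu.1,
          LAE.conj_mem_of_mem_normalizer (le_normalizer_centralizer hPJ hg) hu.2⟩ (by simpa using u1))
        exact mem_centralizer_singleton_iff.2
          (y4 _ (k.conj g (hP hg) W hW) h1 hd _ (conj_mem_conjS.2 hu.1))
    exact ⟨x, hx, x1, fun g hg => mem_centralizer_singleton_iff.2 (hc g hg)⟩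


end CfsgLib.O8
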