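import Mathlib
import Cfsg.Agent.Lib.O8.Tdb
import Cfsg.Agent.Lib.O8.Nsc
import Cfsg.Agent.Lib.O8.Ffs

/-! The case `T3`: solvable overgroups of `T`. -/

set_option autoImplicit false
set_option linter.unusedSectionVars false

namespace CfsgLib.O8

open Cfsg Subgroup CfsgLib.LAE CfsgLib.PLocal CfsgLib.ZJ CfsgLib.Blocks
open scoped CfsgLib.BG MatrixGroups commutatorElement

universe u

variable {G : Type*} [Group G] [Finite G] {M Q V T Q₁ Q₂ : Subgroup G} {x x₁ x₂ z : G}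

theorem T3.c3d_big (d : T3 M Q V T Q₁ Q₂ x₁ x₂ z) (n : NS M Q V T) {B : Subgroup G} (hB : B ≤ Q₁)
    (h : ¬ Q.relIndex B ≤ 2) : V ⊓ 𝒞(B) ≤ zpowers z := by
  have h1 := relIndex_mul_relIndex Q (B ⊔ Q) Q₁ le_sup_right (sup_le hB d.h1.le)
  rw [d.h1.i4, PLocal.relIndex_sup_of_le_normalizer (hB.trans (d.h1.leT.trans (n.TM.trans n.nQ)))] at h1
  have h2 : (B ⊔ Q).relIndex Q₁ = 1 := by
    have h3 : (B ⊔ Q).relIndex Q₁ ≠ 0 := index_ne_zero_of_finite
    by_contra h4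
    have : Q.relIndex B * 2 ≤ Q.relIndex B * (B ⊔ Q).relIndex Q₁ := Nat.mul_le_mul_left _ (by omega)
    omega
  rw [← d.c1]
  refine fun v hv => ⟨hv.1, centralizer_le (relIndex_eq_one.1 h2) ?_⟩
  rw [centralizer_sup]
  exact ⟨hv.2, le_centralizer_iff.1 n.cV.ge hv.1⟩

theorem T3.c3d_zj (d : T3 M Q V T Q₁ Q₂ x₁ x₂ z) (n : NS M Q V T) (hJ : ¬ JJ T ≤ Q₂) :
    zj 2 T ≤ zpowers z := by
  obtain ⟨A, hA, A2⟩ : ∃ A ∈ maxElemIn 2 T, ¬ A ≤ Q₂ := by
    by_contra h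
    push Not at h
    exact hJ (thompsonSubgroupOf_le_iff.2 h)
  have sq : ∀ a ∈ A, a * a ∈ Q := fun a ha => by
    rw [← pow_two, hA.2.1.2 a ha]; exact one_mem _
  have A1 : A ≤ Q₁ := (d.toTG.le_or hA.1 sq).resolve_right A2
  have AQ : ¬ A ≤ Q := fun h => A2 (h.trans d.h2.le)
  have zz : z * z = 1 := by
    rw [← pow_two]; exact (elemAb_omegaZ (p := 2) T).2 z (d.hZ.ge (mem_zpowers z))
  rw [(n.wv hA AQ ?_).2]
  · obtain ⟨a, ha, a2⟩ := SetLike.not_le_iff_exists.1 A2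
    obtain ⟨t, ht, t1⟩ : ∃ t ∈ Q₂, t ∉ Q₁ := SetLike.not_le_iff_exists.1 fun h => by
      have h1 := d.h1.i2
      rw [← d.toTG.sup n, sup_eq_left.2 h, relIndex_self] at h1
      omega
    have tT := d.h2.leT ht
    have aJ : a ∈ JJ T ⊓ Q₁ := ⟨le_thompsonSubgroupOf hA ha, A1 ha⟩
    have aJ' : t * a * t⁻¹ ∈ JJ T ⊓ Q₁ := ⟨LAE.conj_mem_of_mem_normalizer
      (normalizer_le_normalizer_thompsonSubgroupOf T (le_normalizer tT)) aJ.1,
      LAE.conj_mem_of_mem_normalizer (d.h1.nQ n (mem_sup_left tT)) aJ.2⟩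
    refine (inf_le_inf_left _ (centralizer_le inf_le_left)).trans
      (d.c3d_big n (B := JJ T ⊓ Q₁) inf_le_right fun h => ?_)
    have aQ : a ∉ Q := fun k => a2 (d.h2.le k)
    have k := Sect.mul_mem_of_le_two h aJ aJ' aQ fun k => aQ (by
      simpa [mul_assoc] using conj_inv_mem_of_mem_normalizer (n.nQ (n.TM tT)) k)
    have k2 : a * t * (a * t) ∈ Q := by
      have : a * t * (a * t) = a * (t * a * t⁻¹) * (t * t) := by group
      rw [this]
      exact mul_mem k (d.h2.sq t ht)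
    rcases d.inv _ (mul_mem (hA.1 ha) tT) k2 with k | k
    · exact t1 ((mul_mem_cancel_left (A1 ha)).1 k)
    · exact a2 ((mul_mem_cancel_right ht).1 k)
  · by_cases h : Q.relIndex A ≤ 2
    · exact h.trans (Sect.two_le_relIndex fun k => AQ (n.cV ▸ le_centralizer_iff.1 k))
    · have h1 : Q.relIndex A ≤ 4 := d.h1.i4 ▸ Sect.relIndex_mono_right Q A1
      have h2 := Sect.card_eq_relIndex 𝒞(A) V
      have h3 := card_le_card_of_le (d.c3d_big n A1 h)
      rw [Sect.card_zpowers_two zz d.z1, inf_comm] at h3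
      rw [d.c8] at h2
      have := Nat.mul_le_mul_right (𝒞(A).relIndex V) h3
      omega

theorem T3.c3d (d : T3 M Q V T Q₁ Q₂ x₁ x₂ z) (n : NS M Q V T) (e : D3 M Q V T Q₂ x₁ x₂ z)
    (hJ : ¬ JJ T ≤ Q₂) {N : Subgroup G} (hs : Group.IsSolvable N) (sc : Sc N) (hP : T ≤ N) : N ≤ M := by
  have zZ : z ∈ ZZ T := d.hZ ▸ mem_zpowers z
  have zz : z * z = 1 := by rw [← pow_two]; exact (elemAb_omegaZ (p := 2) T).2 z zZ
  have syl := e.syl.mono hP le_top
  obtain ⟨U, ZU, UR, eU, nU, c⟩ := ffs hs syl sc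
  have UT : U ≤ T := UR.trans syl.pCoreOf_le
  have u2 : ∀ u ∈ U, u * u = 1 := fun u hu => by rw [← pow_two]; exact eU.2 u hu
  have key : ∀ u ∈ U, JJ T ≤ 𝒞[u] → u ∈ zpowers z := fun u hu h =>
    d.c3d_zj n hJ (mem_zj n.two (UT hu) (u2 u hu) h)
  rcases c with c | ⟨F, f⟩
  · refine le_trans (fun g hg => ?_) (e.cz.le.trans (d.h1.PM n))
    have h1 := LAE.conj_mem_of_mem_normalizer (nU hg) (ZU zZ)
    rcases (Sect.mem_zpowers_two zz).1 (key _ h1 fun a ha =>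
      mem_centralizer_singleton_iff.2 (c ha _ h1).symm) with k | k
    · exact absurd (by simpa using k) d.z1
    · exact mem_centralizer_singleton_iff.2 (mul_inv_eq_iff_eq_mul.1 k)
  have zW : ∀ W ∈ F, z ∈ W := fun W hW => by
    obtain ⟨u, hu, u1, h⟩ := f.fix W hW
    exact ((Sect.mem_zpowers_two zz).1 (key u (f.le W hW hu) h)).resolve_left u1 ▸ hu
  obtain ⟨W, hW⟩ := f.ne
  have nW : N ≤ 𝒩(W) := fun g hg => mem_normalizer_iff_conjS.2 (by
    by_contra k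
    have := f.disj _ (f.conj W hW g hg) W hW k
    exact d.z1 (mem_bot.1 (this ▸ mem_inf.2 ⟨zW _ (f.conj W hW g hg), zW W hW⟩)))
  have i2 : (zpowers z).relIndex W ≤ 2 := by
    have := Sect.card_eq_relIndex' (zpowers_le.2 (zW W hW))
    rw [f.four W hW, Sect.card_zpowers_two zz d.z1] at this
    omega
  have cm : ∀ w ∈ W, ∀ t ∈ T, ⁅w, t⁆ ∈ zpowers z := fun w hw t ht => by
    have nz : t ∈ 𝒩(zpowers z) := d.hZ ▸ normalizer_le_normalizer_omegaZ T (le_normalizer ht)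
    rw [commutatorElement_def, mul_assoc, mul_assoc, ← mul_assoc t]
    by_cases k : w ∈ zpowers z
    · exact mul_mem k (LAE.conj_mem_of_mem_normalizer nz (inv_mem k))
    · exact Sect.mul_mem_of_le_two i2 hw (LAE.conj_mem_of_mem_normalizer (nW (hP ht)) (inv_mem hw)) k
        fun k' => k (by simpa [mul_assoc] using conj_inv_mem_of_mem_normalizer nz k')
  have Wl : W ≤ V ⊓ 𝒞(Q₂) := fun w hw => by
    have wV := e.z2 w (n.TM (UT (f.le W hW hw))) (u2 w (f.le W hW hw)) fun q hq => cm w hw q (n.QT hq)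
    exact ⟨wV, d.nl w wV fun a ha => cm w hw a (d.h2.leT ha)⟩
  rw [eq_of_le_of_card_ge Wl (by rw [d.l4, f.four W hW]), e.nl] at nW
  exact nW.trans (d.h2.PM n)


end CfsgLib.O8
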