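import Mathlib
import Cfsg.Agent.Lib.O8.Tdb
import Cfsg.Agent.Lib.O8.Ffs
import Cfsg.Agent.Lib.O8.Cx

/-! The case `T4`: centralizers of central involutions. -/

set_option autoImplicit false
set_option linter.unusedSectionVars false

namespace CfsgLib.O8

open Cfsg Subgroup CfsgLib.LAE CfsgLib.PLocal CfsgLib.ZJ CfsgLib.Blocks
open scoped CfsgLib.BG MatrixGroups commutatorElement

universe u

variable {G : Type*} [Group G] [Finite G] {M Q V T Q₁ Q₂ : Subgroup G} {x x₁ x₂ z : G}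

theorem c4c_mem {W : Subgroup G} (hW : Nat.card W = 4) {u v w : G} (hu : u ∈ W) (hv : v ∈ W) (u1 : u ≠ 1)
    (v1 : v ≠ 1) (vu : v ≠ u) (u2 : u * u = 1) (hw : w ∈ W) : w = 1 ∨ w = u ∨ w = v ∨ w = u * v := by
  have a1 : u * v ≠ 1 := fun e => vu (mul_left_cancel (e.trans u2.symm))
  have h4 : ({1, u, v, u * v} : Set G).ncard = 4 := by
    rw [Set.ncard_insert_of_notMem (by simp [u1.symm, v1.symm, a1.symm]),
      Set.ncard_insert_of_notMem (by simp [vu.symm, v1]), Set.ncard_pair (by simp [u1])]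
  have h5 : ({1, u, v, u * v} : Set G) = W := Set.eq_of_subset_of_ncard_le (by
    rintro _ (rfl | rfl | rfl | rfl)
    exacts [one_mem W, hu, hv, mul_mem hu hv]) (by rw [h4, ← hW, ← Nat.card_coe_set_eq]; rfl)
  exact (h5.symm ▸ hw : w ∈ ({1, u, v, u * v} : Set G))

theorem c4c_cent {W : Subgroup G} (hW : Nat.card W = 4) (sq : ∀ a ∈ W, a * a = 1) (hx : x ∈ 𝒩(W))
    (x3 : x ^ 3 = 1) {u : G} (hu : u ∈ W) (u1 : u ≠ 1) (c : x * u * x⁻¹ = u) : x ∈ 𝒞(W) := by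
  intro w hw
  refine (mul_inv_eq_iff_eq_mul.1 ?_).symm
  by_cases w1 : w = 1
  · simp [w1]
  by_cases wu : w = u
  · rw [wu, c]
  rcases c4c_mem hW hu hw u1 w1 wu (sq u hu) (LAE.conj_mem_of_mem_normalizer hx hw) with e | e | e | e
  · exact absurd (by simpa using e) w1
  · exact absurd (mul_left_cancel (mul_right_cancel (e.trans c.symm))) wu
  · exact e
  · have h2 : x * (u * w) * x⁻¹ = w := by
      calc _ = (x * u * x⁻¹) * (x * w * x⁻¹) := by group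
        _ = w := by rw [c, e, ← mul_assoc, sq u hu, one_mul]
    have h3 : x ^ 3 * w * (x ^ 3)⁻¹ = x * w * x⁻¹ := by
      calc _ = x * (x * (x * w * x⁻¹) * x⁻¹) * x⁻¹ := by simp only [pow_three, mul_inv_rev, mul_assoc]
        _ = _ := by rw [e, h2, e]
    rw [← h3, x3, one_mul, inv_one, mul_one]

theorem T4.cz (d : T4 M Q V T Q₁ Q₂ x₁ x₂) (g : Gl G) (n : NS M Q V T) (e : D4 Q V T Q₁ Q₂ x₁)
    (hz : z ∈ ZZ T) (z1 : z ≠ 1) : (𝒞[z] : Subgroup G) = T ⊔ zpowers x₁ := by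
  have := Fact.mk Nat.prime_two
  have sq : ∀ {A : Subgroup G}, IsElementaryAbelian 2 A → ∀ a ∈ A, a * a = 1 := fun hA a ha => by
    rw [← pow_two, hA.2 a ha]
  have z2 : orderOf z = 2 := elemAb_orderOf (elemAb_omegaZ T) hz z1
  have PN : T ⊔ zpowers x₁ ≤ (𝒞[z] : Subgroup G) := e.cZ ▸ centralizer_le (Set.singleton_subset_iff.2 hz)
  refine le_antisymm ?_ PN
  have hS : IsSylowIn 2 T (𝒞[z] : Subgroup G) := e.syl.mono (le_sup_left.trans PN) le_top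
  obtain ⟨U, ZU, UO, eaU, nU, hU⟩ := ffs (g.cl.solvable_cent z2 le_rfl) hS (g.scz z2)
  have U1 : U ≤ Q₁ := UO.trans (d.h1.core n (isPGroup_pCoreOf _) (hS.pCoreOf_le.trans le_sup_left)
    (PN.trans (le_normalizer_pCoreOf _)))
  have UV : ∀ u ∈ U, JJ T ≤ 𝒞[u] → u ∈ V := fun u hu h =>
    (e.zj ▸ mem_zj n.two (d.h1.leT (U1 hu)) (sq eaU u hu) h : u ∈ V ⊓ 𝒞(Q₂)).1
  obtain ⟨t, tJ, tQ⟩ := SetLike.not_le_iff_exists.1 e.J1
  have tT := thompsonSubgroupOf_le T tJ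
  rcases hU with hU | ⟨F, hF⟩
  · have a1 : U ≤ V := fun u hu => UV u hu (hU.trans (centralizer_le (Set.singleton_subset_iff.2 hu)))
    have a2 := (d.h1.ncl n (PN.trans (le_normalizer_centralizer nU)) (hU tJ) tT tQ).2
    have a3 : T ≤ 𝒞(U) := le_sup_left.trans (a2.trans (sup_le le_rfl (n.cV ▸ centralizer_anti a1)))
    rw [← e.nZ, le_antisymm ZU (n.hZ ▸ le_inf a1 (le_centralizer_iff.1 a3))]
    exact nU
  exfalso
  have hK : T ⊔ zpowers x₁ ≤ 𝒩((⨅ W ∈ F, 𝒩(W) : Subgroup G)) := fun p hp =>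
    mem_normalizer_of_conjS_le (conjS_le_iff_forall.2 fun k hk => mem_iInf.2 fun W => mem_iInf.2 fun hW => by
      have := mem_iInf.1 (mem_iInf.1 hk (conjS p⁻¹ W)) (hF.conj W hW _ (inv_mem (PN hp)))
      rw [← conjS_normalizer, mem_conjS, inv_inv] at this
      exact this)
  obtain ⟨xK, PK⟩ := d.h1.ncl n hK (mem_iInf.2 fun W => mem_iInf.2 fun hW => hF.norm W hW tJ) tT tQ
  have x3 : x₁ ^ 3 = 1 := d.h1.x3 ▸ pow_orderOf_eq_one x₁
  have xc : ∀ W ∈ F, x₁ ∈ 𝒞(W) := fun W hW => by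
    have xW : x₁ ∈ 𝒩(W) := mem_iInf.1 (mem_iInf.1 xK W) hW
    have sW := fun a ha => sq eaU a (hF.le W hW ha)
    obtain ⟨u, hu, u1, hJ⟩ := hF.fix W hW
    by_cases hc : x₁ * u * x₁⁻¹ = u
    · exact c4c_cent (hF.four W hW) sW xW x3 hu u1 hc
    have uV := UV u (hF.le W hW hu) hJ
    have uV' : x₁ * u * x₁⁻¹ ∈ V := LAE.conj_mem_of_mem_normalizer (n.nV.ge d.h1.xM) uV
    have WV : W ≤ V := fun w hw => by
      rcases c4c_mem (hF.four W hW) hu (LAE.conj_mem_of_mem_normalizer xW hu) u1 (by simpa using u1) hc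
        (sW u hu) hw with rfl | rfl | rfl | rfl
      exacts [one_mem _, uV, uV', mul_mem uV uV']
    have TW : T ≤ 𝒩(W) := le_sup_left.trans (PK.trans (sup_le (fun k hk => mem_iInf.1 (mem_iInf.1 hk W) hW)
      (n.cV ▸ (centralizer_anti WV).trans (centralizer_le_normalizer _))))
    obtain ⟨⟨v, hv⟩, v1⟩ := ne_bot_iff_exists_ne_one.1 (inf_centralizer_ne_bot
      ((elemAb_isPGroup n.eaV).to_le WV) n.two TW (fun e => u1 (mem_bot.1 (e ▸ hu))))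
    have vZ : v ∈ ZZ T := n.hZ ▸ ⟨WV hv.1, hv.2⟩
    have xZ : x₁ ∈ 𝒞(ZZ T) := e.cZ ▸ mem_sup_right (mem_zpowers x₁)
    exact c4c_cent (hF.four W hW) sW xW x3 hv.1 (fun e => v1 (Subtype.ext e))
      (by rw [← xZ v vZ, mul_inv_cancel_right])
  obtain ⟨W, hW⟩ := hF.ne
  refine hF.nc W hW ((thompsonSubgroupOf_le T).trans (le_centralizer_iff.1 fun w hw => ?_))
  have wU := hF.le W hW hw
  have w1 : w ∈ 𝒞(Q₁) := g.cl.cen_of (n.two.to_le d.h1.leT) d.h1.x3 d.h1.xn (U1 wU) (xc W hW w hw).symm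
    fun r hr => by
      have a1 : Commute w x₁ := xc W hW w hw
      have a2 : Commute (r⁻¹ * w * r⁻¹⁻¹) x₁ := xc _ (hF.conj W hW r⁻¹
        (inv_mem (PN (mem_sup_left (d.h1.leT hr))))) _ (conj_mem_conjS.2 hw)
      have a3 : Commute w (r * x₁⁻¹ * r⁻¹) := by
        have := a2.inv_right.eq
        calc w * (r * x₁⁻¹ * r⁻¹) = r * (r⁻¹ * w * r⁻¹⁻¹ * x₁⁻¹) * r⁻¹ := by group
          _ = _ := by rw [this]; group
      have := (a1.mul_right a3).eq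
      rwa [show x₁ * (r * x₁⁻¹ * r⁻¹) = ⁅x₁, r⁆ by rw [commutatorElement_def]; group] at this
  have w2 : w ∈ 𝒞(Q) := centralizer_anti d.h1.le w1
  have w3 : w ∈ V := n.hV ▸ mem_omegaZ.2 ⟨n.cQ w2, w2, eaU.2 w wU⟩
  exact omegaZ_le_centralizer T (e.c1 ▸ ⟨w3, w1⟩ : w ∈ ZZ T)


end CfsgLib.O8
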