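import Mathlib
import Cfsg.Agent.Lib.O8.C4c
import Cfsg.Agent.Lib.O8.Cy

/-! The case `T4`: the normalizer of `C_V(Q₂)`. -/

set_option autoImplicit false
set_option linter.unusedSectionVars false

namespace CfsgLib.O8

open Cfsg Subgroup CfsgLib.LAE CfsgLib.PLocal CfsgLib.ZJ CfsgLib.Blocks
open scoped CfsgLib.BG MatrixGroups commutatorElement

universe u

variable {G : Type*} [Group G] [Finite G] {M Q V T Q₁ Q₂ : Subgroup G} {x x₁ x₂ z : G}

/-- a group with a self-normalizing Sylow 2-subgroup of order two -/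
theorem c4d_L (h : Cl G) {S : Subgroup G} (hS : IsSylowIn 2 S ⊤) {τ : G} (h2 : ∀ a ∈ S, a = 1 ∨ a = τ)
    (nS : 𝒩(S) ≤ S) (x3 : orderOf x = 3) : S ⊔ zpowers x = ⊤ ∨
      ∃ O : Subgroup G, 9 ∣ Nat.card O ∧ ∀ s ∈ S, s ≠ 1 → ∀ o ∈ O, s * o * s⁻¹ * o = 1 := by
  have := Fact.mk Nat.prime_two
  have := Fact.mk Nat.prime_three
  obtain ⟨P, rfl⟩ := hS.exists_sylow_top
  have ab : (P : Subgroup G) ≤ 𝒞((P : Subgroup G)) := fun a ha b hb => by
    rcases h2 a ha with rfl | rfl <;> rcases h2 b hb with rfl | rfl <;> simp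
  have hc := MonoidHom.ker_transferSylow_isComplement' P (nS.trans ab)
  have nO := (MonoidHom.transferSylow P (nS.trans ab)).normal_ker
  generalize (MonoidHom.transferSylow P (nS.trans ab)).ker = O at hc nO
  have inv : ∀ s ∈ (P : Subgroup G), s ≠ 1 → s * s = 1 ∧ ∀ o ∈ O, s * o * s⁻¹ * o = 1 := fun s hs s1 => by
    have e := (h2 s hs).resolve_left s1
    have s2 : s * s = 1 := (h2 _ (mul_mem hs hs)).resolve_right fun e' => s1 (by simpa using e'.trans e.symm)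
    refine ⟨s2, fun o ho => ?_⟩
    obtain ⟨q, -, rfl⟩ := Ord6.fpf_surj (f := s) (fun q hq => nO.conj_mem q hq s) (fun q hq c =>
      disjoint_def.1 hc.disjoint hq (nS (centralizer_le_normalizer _ fun b hb => by
        rcases h2 b hb with rfl | rfl
        · simp
        · exact e ▸ c))) ho
    calc _ = s * q⁻¹ * s⁻¹ * (s * s) * q * (s * s)⁻¹ * q⁻¹ * (s * q * s⁻¹) := by group
      _ = 1 := by rw [s2]; group
  obtain ⟨s, hs, s1⟩ : ∃ s ∈ (P : Subgroup G), s ≠ 1 := by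
    by_contra hn
    push Not at hn
    have : x ∈ (P : Subgroup G) := nS (centralizer_le_normalizer _ fun b hb => by simp [hn b hb])
    simp [hn x this] at x3
  have xO : x ∈ O := by
    obtain ⟨o, ho, p, hp, e⟩ := (mem_sup_iff_of_right_le_normalizer (N := O) (H := P) (x := x)
      (by rw [normalizer_eq_top]; exact le_top)).1 (hc.sup_eq_top ▸ mem_top x)
    by_cases p1 : p = 1
    · rw [e, p1, mul_one]; exact ho
    · have : x ^ 2 = 1 := by
        calc x ^ 2 = p⁻¹ * (p * o * p⁻¹ * (p * p) * o) * p := by rw [e, pow_two]; group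
          _ = 1 := by rw [(inv p hp p1).1, mul_one, (inv p hp p1).2 o ho]; group
      exact absurd (x3 ▸ orderOf_dvd_of_pow_eq_one this) (by norm_num)
  have odd : ¬ 2 ∣ Nat.card O := hc.index_eq_card ▸ P.not_dvd_index
  have h3 : IsPGroup 3 O := isPGroup_iff_forall_mem.2 fun o ho => ⟨1, by
    have i : ∀ a ∈ O, s * a * s⁻¹ = a⁻¹ := fun a ha => eq_inv_of_mul_eq_one_left ((inv s hs s1).2 a ha)
    have c : x * o = o * x := by
      rw [← inv_inj, ← i _ (mul_mem xO ho), mul_inv_rev, ← i x xO, ← i o ho]; group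
    have a1 := h o
    have a2 : ¬ 2 ∣ orderOf o := fun e => odd (e.trans (O.orderOf_dvd_natCard ho))
    have a3 := fun e => h.comm c (r := 3) (s := 5) (by rw [x3]) e (by norm_num)
    have a4 := fun e => h.comm c (r := 3) (s := 7) (by rw [x3]) e (by norm_num)
    rw [pow_one, ← orderOf_dvd_iff_pow_eq_one]
    generalize orderOf o = k at *
    interval_cases k <;> simp_all⟩
  obtain ⟨k, hk⟩ := IsPGroup.iff_card.1 h3
  by_cases k2 : 2 ≤ k
  · exact Or.inr ⟨O, hk ▸ pow_dvd_pow 3 k2, fun s hs s1 => (inv s hs s1).2⟩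
  · have : zpowers x = O := eq_of_le_of_card_ge (zpowers_le.2 xO) (by
      rw [Nat.card_zpowers, x3, hk]
      exact Nat.pow_le_pow_right (by norm_num) (show k ≤ 1 by omega))
    exact Or.inl (by rw [this, sup_comm, hc.sup_eq_top])

theorem c4d_X (h : Cl G) {N R : Subgroup G} (hT : IsSylowIn 2 T ⊤) (nT : 𝒩(T) = T) (RT : R ≤ T)
    (i2 : R.relIndex T = 2) (TN : T ≤ N) (NR : N ≤ 𝒩(R)) (xN : x ∈ N) (x3 : orderOf x = 3) :
    N ≤ T ⊔ zpowers x ∨ ∃ X ≤ N, 9 ∣ Nat.card X ∧ ∀ s ∈ T, s ∉ R → ∀ a ∈ X, s * a * s⁻¹ * a ∈ R := by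
  have := Fact.mk Nat.prime_two
  have := Fact.mk Nat.prime_three
  have := normal_subgroupOf_of_le NR
  let π := QuotientGroup.mk' (R.subgroupOf N)
  have hπ : Function.Surjective π := QuotientGroup.mk'_surjective _
  have ker : ∀ a : N, π a = 1 ↔ (a : G) ∈ R := fun a => QuotientGroup.eq_one_iff a
  have mem : ∀ {A : Subgroup G}, T ≤ A → ∀ a : N, π a ∈ (A.subgroupOf N).map π → (a : G) ∈ A := by
    rintro A hA a ⟨b, hb, e⟩
    exact (mul_mem_cancel_left (inv_mem hb)).1 (hA (RT (QuotientGroup.eq (s := R.subgroupOf N).1 e)))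
  have hS := ((hT.mono TN le_top).subgroupOf le_rfl).map π
  rw [subgroupOf_self, map_top_of_surjective π hπ] at hS
  obtain ⟨t, tT, tR⟩ : ∃ t ∈ T, t ∉ R := SetLike.not_le_iff_exists.1 fun e => by
    rw [relIndex_eq_one.2 e] at i2; omega
  have y3 : orderOf (π ⟨x, xN⟩) = 3 := orderOf_eq_prime
    (by rw [← map_pow, show (⟨x, xN⟩ : N) ^ 3 = 1 from Subtype.ext (x3 ▸ pow_orderOf_eq_one x), map_one])
    fun e => by
      obtain ⟨k, hk⟩ := isPGroup_iff_forall_mem.1 hT.isPGroup x (RT ((ker _).1 e))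
      have := orderOf_dvd_of_pow_eq_one hk
      rw [x3] at this
      exact absurd (Nat.prime_three.dvd_of_dvd_pow this) (by norm_num)
  rcases c4d_L ((h.sub N).of_surj π hπ) hS (τ := π ⟨t, TN tT⟩) (by
      rintro _ ⟨a, ha, rfl⟩
      by_cases aR : (a : G) ∈ R
      · exact Or.inl ((ker a).2 aR)
      · exact Or.inr (QuotientGroup.eq.2 ((mul_mem_iff_of_index_two i2 (a := ⟨_, inv_mem ha⟩) (b := ⟨t, tT⟩)).2
          (iff_of_false (fun e => aR (inv_mem_iff.1 e)) tR))))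
    (fun b hb => by
      obtain ⟨a, rfl⟩ := hπ b
      refine mem_map_of_mem π (show (a : G) ∈ T from nT ▸
        mem_normalizer_of_conjS_le (conjS_le_iff_forall.2 fun s hs => mem le_rfl (a * ⟨s, TN hs⟩ * a⁻¹) ?_))
      rw [map_mul, map_mul, map_inv]
      exact LAE.conj_mem_of_mem_normalizer hb (mem_map_of_mem π hs)) y3 with e | ⟨O, h9, hO⟩
  · refine Or.inl fun a ha => mem le_sup_left ⟨a, ha⟩ (SetLike.le_def.1 (e.ge.trans ?_) (mem_top _))
    exact sup_le (map_mono fun b hb => mem_subgroupOf.2 (mem_sup_left hb))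
      (zpowers_le.2 (mem_map_of_mem π (mem_subgroupOf.2 (mem_sup_right (mem_zpowers x)))))
  · refine Or.inr ⟨(O.comap π).map N.subtype, map_subtype_le _, ?_, ?_⟩
    · rw [PLocal.card_map_subtype]
      have := card_map_dvd (O.comap π) π
      rw [map_comap_eq_self_of_surjective hπ] at this
      exact h9.trans this
    · rintro s hs sR _ ⟨a, ha, rfl⟩
      refine (ker (⟨s, TN hs⟩ * a * ⟨s, TN hs⟩⁻¹ * a)).1 ?_
      rw [map_mul, map_mul, map_mul, map_inv]
      exact hO _ (mem_map_of_mem π hs) (fun e => sR ((ker _).1 e)) _ ha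

theorem T4.nl (d : T4 M Q V T Q₁ Q₂ x₁ x₂) (g : Gl G) (n : NS M Q V T) (e : D4 Q V T Q₁ Q₂ x₁) :
    𝒩((V ⊓ 𝒞(Q₂) : Subgroup G)) ≤ M := by
  have := Fact.mk Nat.prime_two
  have PN : T ⊔ zpowers x₂ ≤ 𝒩((V ⊓ 𝒞(Q₂) : Subgroup G)) :=
    le_normalizer_inf ((d.h2.PM n).trans n.nV.ge) (le_normalizer_centralizer (d.h2.nQ n))
  have NQ : 𝒩((V ⊓ 𝒞(Q₂) : Subgroup G)) ≤ 𝒩(Q₂) := by
    have := normalizer_le_normalizer_centralizer (V ⊓ 𝒞(Q₂))
    rwa [e.cl] at this
  have Zl : ZZ T ≤ V ⊓ 𝒞(Q₂) := n.hZ ▸ inf_le_inf_left _ (centralizer_anti d.h2.leT)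
  rcases c4d_X g.cl e.syl e.nT d.h2.leT d.h2.i2 (le_sup_left.trans PN) NQ
    (PN (mem_sup_right (mem_zpowers x₂))) d.h2.x3 with h | ⟨X, XN, h9, hX⟩
  · exact h.trans (d.h2.PM n)
  exfalso
  obtain ⟨y, hy, c, hc, y3, c3, yc, nd⟩ := g.cl.ex9 h9
  have key : ∀ a ∈ X, a ^ 3 = 1 → a ≠ 1 → V ⊓ 𝒞(Q₂) ⊓ 𝒞[a] ≤ ⊥ := fun a ha a3 a1 => by
    by_contra hb
    have TC : T ≤ 𝒩((V ⊓ 𝒞(Q₂) ⊓ 𝒞[a] : Subgroup G)) := fun s hs =>
      mem_normalizer_of_conjS_le (conjS_le_iff_forall.2 fun w hw => by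
        refine ⟨LAE.conj_mem_of_mem_normalizer (PN (mem_sup_left hs)) hw.1, ?_⟩
        by_cases sQ : s ∈ Q₂
        · rw [hw.1.2 s sQ, mul_inv_cancel_right]; exact hw.2
        · have b1 : Commute w (s⁻¹ * a * s⁻¹⁻¹ * a) :=
            (hw.1.2 _ (hX s⁻¹ (inv_mem hs) (fun h => sQ (inv_mem_iff.1 h)) a ha)).symm
          have b2 : Commute w a := mem_centralizer_singleton_iff.1 hw.2
          have b3 := (b1.mul_right b2.inv_right).eq
          rw [mul_inv_cancel_right] at b3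
          refine mem_centralizer_singleton_iff.2 ?_
          calc s * w * s⁻¹ * a = s * (w * (s⁻¹ * a * s⁻¹⁻¹)) * s⁻¹ := by group
            _ = _ := by rw [b3]; group)
    obtain ⟨⟨v, hv⟩, v1⟩ := ne_bot_iff_exists_ne_one.1 (inf_centralizer_ne_bot
      ((elemAb_isPGroup n.eaV).to_le (inf_le_left.trans inf_le_left)) n.two TC (fun e => hb e.le))
    have aP : a ∈ T ⊔ zpowers x₁ := d.cz g n e (n.hZ ▸ ⟨hv.1.1.1, hv.2⟩) (fun e => v1 (Subtype.ext e)) ▸
      mem_centralizer_singleton_iff.2 (mem_centralizer_singleton_iff.1 hv.1.2).symm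
    rcases d.h1.maxT n (X := T ⊔ zpowers a) le_sup_left (sup_le le_sup_left (zpowers_le.2 aP)) with h | h
    · obtain ⟨k, hk⟩ := isPGroup_iff_forall_mem.1 n.two a (h ▸ mem_sup_right (mem_zpowers a))
      exact a1 (orderOf_eq_one_iff.1 (Nat.eq_one_of_dvd_coprimes (Nat.Coprime.pow_right k (by norm_num))
        (orderOf_dvd_of_pow_eq_one a3) (orderOf_dvd_of_pow_eq_one hk)))
    · have hM : M ≤ 𝒩(Q₂) := d.gen ▸ (sup_le (h ▸ sup_le (le_sup_left.trans PN) (zpowers_le.2 (XN ha))) PN).trans NQ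
      have := d.h2.i4
      rw [relIndex_eq_one.2 (n.le_Q (n.two.to_le d.h2.leT) (d.h2.leT.trans n.TM) hM)] at this
      omega
  have y3' : y ^ 3 = 1 := y3 ▸ pow_orderOf_eq_one y
  have c3' : c ^ 3 = 1 := c3 ▸ pow_orderOf_eq_one c
  have cm : Commute y c := yc
  refine n.Z1 (eq_bot_iff.2 (Zl.trans (gen9 ((elemAb_isPGroup n.eaV).to_le inf_le_left) y3 c3 yc nd (XN hy) (XN hc)
    (key y hy y3' fun e => by simp [e] at y3) (key c hc c3' fun e => by simp [e] at c3)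
    (key _ (mul_mem hy hc) (by rw [cm.mul_pow, y3', c3', one_mul]) fun e => nd ?_)
    (key _ (mul_mem hy (inv_mem hc)) (by rw [cm.inv_right.mul_pow, y3', inv_pow, c3', inv_one, one_mul])
      fun e => nd ?_))))
  · rw [eq_inv_of_mul_eq_one_right e]; exact inv_mem (mem_zpowers y)
  · rw [← mul_inv_eq_one.1 e]; exact mem_zpowers y


end CfsgLib.O8
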