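import Mathlib
import Cfsg.Agent.Lib.O8.Br
import Cfsg.Agent.Lib.O8.KA7
import Cfsg.Agent.S3331

/-! Extensions of a 2-group by `S₅`. -/

set_option autoImplicit false
set_option linter.unusedSectionVars false

namespace CfsgLib.O8

open Cfsg Subgroup CfsgLib.LAE CfsgLib.PLocal CfsgLib.ZJ CfsgLib.Blocks
open scoped CfsgLib.BG MatrixGroups commutatorElement

universe u

theorem s5e_fpf (n : ℕ) : ∀ (G : Type u) [Group G] [Finite G], Nat.card G ≤ n → Cl G →
    ∀ π : G →* S5, Function.Surjective π → IsPGroup 2 π.ker → ∀ x : G, orderOf (π x) = 3 →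
      ∀ q ∈ π.ker, x * q = q * x → q = 1 := by
  have := Fact.mk Nat.prime_two
  induction n with
  | zero => exact fun G _ _ h => absurd (Nat.card_pos (α := G)) (by omega)
  | succ n ih =>
    intro G _ _ hn h π hπ h2 x hx q hq c
    by_cases hk : π.ker = ⊥
    · exact hk.le hq
    have nV : (ZZ π.ker).Normal := by
      rw [← normalizer_eq_top_iff, eq_top_iff]
      exact le_normalizer_omegaZ_of_le (normalizer_eq_top _).ge
    obtain ⟨A, _, _, _, m, -, hf⟩ := Act.mod (π := π) (V := ZZ π.ker) ⟨h, hπ, h2, nV,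
      elemAb_omegaZ _, omegaZ_le _, le_centralizer_omegaZ _⟩
    have h1 : ZZ π.ker ⊓ 𝒞[x] = ⊥ := by
      rw [← card_eq_one, ← hf, Nat.card_eq_one_iff_exists]
      exact ⟨⟨0, smul_zero _⟩, fun a => Subtype.ext (m.s5 hx a a.2)⟩
    refine h1.le ⟨(QuotientGroup.eq_one_iff q).1 (ih (G ⧸ ZZ π.ker) ?_ (h.quot _)
      (QuotientGroup.lift _ π (omegaZ_le _)) (fun s => ?_) ?_ x hx q hq ?_),
      mem_centralizer_singleton_iff.2 c.symm⟩
    · have h3 := (ZZ π.ker).card_mul_index
      have h4 := (one_lt_card_iff_ne_bot _).2 (omegaZ_ne_bot h2 hk)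
      have h5 : 0 < Nat.card G := Nat.card_pos
      change (ZZ π.ker).index ≤ n
      by_contra h6
      nlinarith
    · obtain ⟨g, rfl⟩ := hπ s
      exact ⟨g, rfl⟩
    · rw [QuotientGroup.ker_lift]; exact h2.map _
    · rw [← QuotientGroup.mk_mul, c, QuotientGroup.mk_mul]

theorem s5e_cen : ∀ σ : S5, Equiv.Perm.sign σ = 1 →
    σ * (Equiv.swap 0 1 * Equiv.swap 1 2) = Equiv.swap 0 1 * Equiv.swap 1 2 * σ →
    ∃ i : Fin 3, σ = (Equiv.swap 0 1 * Equiv.swap 1 2) ^ i.val := by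
  decide +kernel

variable {G : Type*} [Group G] [Finite G]

theorem Cl.s5e (h : Cl G) (π : G →* S5) (hπ : Function.Surjective π) (h2 : IsPGroup 2 π.ker) :
    IsElementaryAbelian 2 π.ker := by
  have := Fact.mk Nat.prime_three
  have o3 : orderOf (Equiv.swap 0 1 * Equiv.swap 1 2 : S5) = 3 :=
    orderOf_eq_prime (by decide) (by decide)
  obtain ⟨x, hx, x3⟩ := h.lift' π hπ (.inl rfl) o3
  have xA : x ∈ (alternatingGroup (Fin 5)).comap π := by
    rw [mem_comap, hx, Equiv.Perm.mem_alternatingGroup]; decide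
  let ρ := π.subgroupComap (alternatingGroup (Fin 5))
  have hρ : Function.Surjective ρ := π.subgroupComap_surjective_of_surjective _ hπ
  have i60 : ρ.ker.index = 60 := by
    rw [index_ker, MonoidHom.range_eq_top.2 hρ, card_top, Ord6.card_A5]
  have := Ord6.simple_A5
  have key : ∀ N : Subgroup _, N.Normal → ¬ 3 ∣ Nat.card N → N ≤ ρ.ker := fun N hN h3 =>
    (map_eq_bot_iff N).1 ((hN.map ρ hρ).eq_bot_or_eq_top.resolve_right fun e => h3 (by
      refine dvd_trans ?_ (card_map_dvd N ρ)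
      rw [e, card_top, Ord6.card_A5]; norm_num))
  rcases Cfsg.Agent.S3331.result (zpowers (⟨x, xA⟩ : (alternatingGroup (Fin 5)).comap π))
    (by rw [Nat.card_zpowers, orderOf_mk, x3]) (by
      rw [BG.cent_zpowers]
      refine le_antisymm (fun c hc => ?_) (zpowers_le.2 (mem_centralizer_singleton_iff.2 rfl))
      have h1 : c * x = x * c := congrArg Subtype.val (mem_centralizer_singleton_iff.1 hc)
      obtain ⟨i, hi⟩ := s5e_cen (π c) (Equiv.Perm.mem_alternatingGroup.1 c.2)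
        (by rw [← hx, ← map_mul, h1, map_mul])
      have h3 := s5e_fpf _ G le_rfl h π hπ h2 x (hx ▸ o3) (c * (x ^ i.val)⁻¹)
        (by rw [MonoidHom.mem_ker, map_mul, map_inv, map_pow, hx, ← hi, mul_inv_cancel])
        (Commute.mul_right h1.symm ((Commute.refl x).pow_right _).inv_right)
      exact ⟨(i.val : ℤ), Subtype.ext (by simpa using (mul_inv_eq_one.1 h3).symm)⟩) with
    ⟨N, hN, -, h3, h4⟩ | ⟨N, hN, h3, h4, ⟨e⟩⟩ | ⟨⟨e⟩⟩
  · have h5 := index_dvd_of_le (key N hN fun e => by simpa using Nat.eq_one_of_dvd_coprimes h3 e dvd_rfl)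
    rw [i60, index] at h5
    rcases h4 with h4 | ⟨⟨e⟩⟩
    · omega
    · rw [Nat.card_congr e.toEquiv, Nat.card_perm] at h5
      simp [Nat.factorial] at h5
  · have h5 := key N hN fun e => by
      obtain ⟨a, ha⟩ := exists_prime_orderOf_dvd_card' 3 e
      have := orderOf_dvd_of_pow_eq_one (h4 a a.2)
      rw [orderOf_coe, ha] at this
      omega
    have h6 : ρ.ker ≤ N := by
      have h7 := relIndex_mul_index h5
      rw [i60, index, Nat.card_congr e.toEquiv, Ord6.card_A5] at h7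
      exact relIndex_eq_one.1 (by omega)
    have h8 : ∀ q ∈ π.ker, ∃ r ∈ N, (r : G) = q := fun q hq =>
      ⟨⟨q, by rw [mem_comap, MonoidHom.mem_ker.1 hq]; exact one_mem _⟩, h6 (Subtype.ext hq), rfl⟩
    refine ⟨⟨⟨fun a b => Subtype.ext ?_⟩⟩, fun a ha => ?_⟩
    · obtain ⟨r, hr, e1⟩ := h8 a a.2
      obtain ⟨s, hs, e2⟩ := h8 b b.2
      rw [coe_mul, coe_mul, ← e1, ← e2]
      exact congrArg Subtype.val (setLike_mul_comm hr hs)
    · obtain ⟨r, hr, rfl⟩ := h8 a ha
      exact congrArg Subtype.val (h4 r hr)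
  · have : Fact (Nat.Prime 7) := ⟨by norm_num⟩
    have h5 := ρ.ker.index_dvd_card
    have h6 := Classical.psl2_card_mul (F := ZMod 7)
    rw [i60, Nat.card_congr e.toEquiv] at h5
    rw [ZMod.card] at h6
    have h7 : 2 * Nat.card PSL(2, ZMod 7) = 336 := h6
    omega


end CfsgLib.O8
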