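import Mathlib
import Cfsg.Agent.Lib.O8.S5e
import Cfsg.Agent.Lib.O8.Md

/-! The data for `M / Q ≅ S₅`. -/

set_option autoImplicit false
set_option linter.unusedSectionVars false

namespace CfsgLib.O8

open Cfsg Subgroup CfsgLib.LAE CfsgLib.PLocal CfsgLib.ZJ CfsgLib.Blocks
open scoped CfsgLib.BG MatrixGroups commutatorElement

universe u

variable {G : Type*} [Group G] [Finite G] {M Q V T : Subgroup G}

theorem tys_inv : ∀ s : S5, s * s = 1 → s ≠ 1 → ∃ x : S5, x ≠ 1 ∧ x ^ 3 = 1 ∧ s * x * s⁻¹ = x⁻¹ := by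
  decide +kernel

theorem tys_cent : ∀ x : S5, x * c[0, 1, 2, 3] = c[0, 1, 2, 3] * x →
    ∃ i : Fin 4, x = c[0, 1, 2, 3] ^ (i : ℕ) := by
  decide +kernel

theorem tys_card (P : Sylow 2 S5) : Nat.card P = 8 := by
  have h1 := (P : Subgroup S5).card_mul_index
  have h2 := P.not_dvd_index
  obtain ⟨k, hk⟩ := IsPGroup.iff_card.1 P.isPGroup'
  rw [hk, Nat.card_perm, Nat.card_fin, show (5 : ℕ).factorial = 120 from rfl] at h1
  rw [hk]
  have : k < 7 := (Nat.pow_lt_pow_iff_right one_lt_two).1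
    ((Nat.le_of_dvd (by norm_num) (Dvd.intro _ h1)).trans_lt (by norm_num))
  interval_cases k <;> omega

theorem tys_nab (P : Sylow 2 S5) : ∃ a ∈ (P : Subgroup S5), ∃ b ∈ (P : Subgroup S5), ⁅a, b⁆ ≠ 1 := by
  by_contra! H
  have c4 : (c[0, 1, 2, 3] : S5) ^ 4 = 1 := by decide +kernel
  have h2 : IsPGroup 2 (zpowers (c[0, 1, 2, 3] : S5)) := fun ⟨x, k, hk⟩ => ⟨2, Subtype.ext (by
    change x ^ 4 = 1
    rw [← hk, ← zpow_natCast, ← zpow_mul, mul_comm, zpow_mul, zpow_natCast, c4, one_zpow])⟩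
  obtain ⟨g, -, hg⟩ := (isSylowIn_top P).exists_le_conj h2 le_top
  have h3 : conjS g P ≤ zpowers (c[0, 1, 2, 3] : S5) := fun x hx => by
    have e := H _ (mem_conjS.1 hx) _ (mem_conjS.1 (hg (mem_zpowers _)))
    obtain ⟨i, rfl⟩ := tys_cent x (by
      have := congrArg (fun y => g * y * g⁻¹) (commutatorElement_eq_one_iff_mul_comm.1 e)
      simpa [mul_assoc] using this)
    exact pow_mem (mem_zpowers _) _
  have h4 := card_le_of_le h3
  rw [card_conjS, tys_card, Nat.card_zpowers] at h4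
  have := orderOf_le_of_pow_eq_one (by norm_num) c4
  omega

theorem NS.tys (n : NS M Q V T) (π : M →* S5) (hπ : Function.Surjective π)
    (hk : ∀ m : M, π m = 1 ↔ (m : G) ∈ Q) : TS M Q V T := by
  have := Fact.mk Nat.prime_two
  have := Fact.mk Nat.prime_three
  have := Fact.mk Nat.prime_five
  have QM : Q ≤ M := n.QT.trans n.TM
  have ker : π.ker = Q.subgroupOf M := Subgroup.ext hk
  have ea := (n.cl.sub M).s5e π hπ (ker ▸ n.twoQ.comap_subtype)
  rw [ker] at ea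
  refine ⟨le_antisymm n.VQ fun q hq => ?_, ?_, ?_, fun t t1 t2 t3 => ?_, ?_⟩
  · rw [n.hV, mem_omegaZ]
    refine ⟨hq, fun q' hq' => ?_, congrArg Subtype.val (ea.2 ⟨q, QM hq⟩ hq)⟩
    have := ea.1
    exact congrArg Subtype.val (setLike_mul_comm (s := Q.subgroupOf M) (a := ⟨q', QM hq'⟩) (b := ⟨q, QM hq⟩) hq' hq)
  · rw [← relIndex_subgroupOf n.TM, ← ker, relIndex_ker]
    exact tys_card (n.syl.toSylow.mapSurjective hπ)
  · obtain ⟨_, ⟨a, ha, rfl⟩, _, ⟨b, hb, rfl⟩, e⟩ := tys_nab (n.syl.toSylow.mapSurjective hπ)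
    exact ⟨a, ha, b, hb, fun c => e (by rw [← map_commutatorElement]; exact (hk _).2 c)⟩
  · obtain ⟨A, _, _, _, m, c1, c2⟩ := n.mod π hπ hk
    have s2 : π ⟨t, t1⟩ * π ⟨t, t1⟩ = 1 := by rw [← map_mul]; exact (hk _).2 t3
    obtain ⟨x, x1, x3, e⟩ := tys_inv _ s2 fun c => t2 ((hk _).1 c)
    have o3 := orderOf_eq_prime x3 x1
    rw [← c1, ← (mdA m.two s2 e (by rw [o3]; decide) (m.s5 o3)).1, c2]
  · obtain ⟨g, -, hg⟩ := (n.cl.sub M).lift' π hπ (s := c[0, 1, 2, 3, 4]) (.inr (.inl rfl))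
      (orderOf_eq_prime (by decide +kernel) (by decide +kernel))
    exact ⟨g, g.2, by rw [orderOf_coe, hg]⟩


end CfsgLib.O8
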