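import Mathlib
import Cfsg.Agent.Lib.O8.Tya
import Cfsg.Agent.Lib.O8.Tys
import Cfsg.Agent.Lib.O8.Tyd0
import Cfsg.Agent.Lib.O8.Tyd6
import Cfsg.Agent.Lib.O8.Tyd7
import Cfsg.Agent.Lib.O8.Smf
import Cfsg.Agent.Lib.Ord6.St

/-! Existence of the non-solvable maximal 2-local subgroup. -/

set_option autoImplicit false
set_option linter.unusedSectionVars false

namespace CfsgLib.O8

open Cfsg Subgroup CfsgLib.LAE CfsgLib.PLocal CfsgLib.ZJ CfsgLib.Blocks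
open scoped CfsgLib.BG MatrixGroups commutatorElement

universe u

variable {G : Type*} [Group G] [Finite G]

theorem exn_ns (g : Gl G) {X T : Subgroup G} (hX : IsPGroup 2 X) (X1 : X ≠ ⊥)
    (hm : ∀ Y : Subgroup G, IsPGroup 2 Y → Y ≠ ⊥ → 𝒩(X) ≤ 𝒩(Y) → 𝒩(Y) = 𝒩(X))
    (hT : IsSylowIn 2 T 𝒩(X)) {L : Type} [Group L] (e : Ext 𝒩(X) L) (ev : 2 ∣ Nat.card L)
    (p : ∀ K : Subgroup L, K.Normal → K ≠ ⊥ → 5 ∣ Nat.card K ∨ 7 ∣ Nat.card K) :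
    ∃ (π : 𝒩(X) →* L) (Q : Subgroup G), Function.Surjective π ∧ (∀ m, π m = 1 ↔ (m : G) ∈ Q) ∧
      NS 𝒩(X) Q (ZZ Q) T := by
  have := Fact.mk Nat.prime_two
  obtain ⟨π, hπ, h2⟩ := e
  generalize hM : 𝒩(X) = M at π hπ h2 hT hm ⊢
  have hk : ∀ m : M, π m = 1 ↔ (m : G) ∈ π.ker.map M.subtype := fun m =>
    ⟨fun h => ⟨m, h, rfl⟩, fun ⟨_, h, e⟩ => Subtype.ext e ▸ h⟩
  have soc : ∀ K : Subgroup G, K ≤ M → M ≤ 𝒩(K) → ¬ K ≤ π.ker.map M.subtype →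
      ∃ f ∈ K, orderOf f = 5 ∨ orderOf f = 7 := fun K h1 h3 h4 => by
    have h5 : Nat.card ((K.subgroupOf M).map π) ∣ Nat.card K := by
      rw [← Core.card_subgroupOf_of_le h1]; exact card_map_dvd _ _
    have key : ∀ r : ℕ, r.Prime → r ∣ Nat.card ((K.subgroupOf M).map π) → ∃ f ∈ K, orderOf f = r :=
      fun r hr h6 => by
        have := Fact.mk hr
        obtain ⟨f, hf⟩ := exists_prime_orderOf_dvd_card' r (h6.trans h5)
        exact ⟨f, f.2, by rwa [orderOf_coe]⟩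
    rcases p ((K.subgroupOf M).map π) ((normal_subgroupOf_of_le h3).map π hπ) (fun e => h4 fun k hk' =>
      (hk ⟨k, h1 hk'⟩).1 (e.le (mem_map_of_mem π hk'))) with h6 | h6
    · exact (key 5 (by norm_num) h6).imp fun f hf => ⟨hf.1, .inl hf.2⟩
    · exact (key 7 (by norm_num) h6).imp fun f hf => ⟨hf.1, .inr hf.2⟩
  have hQ : π.ker.map M.subtype = pCoreOf 2 M := by
    refine le_antisymm (le_pCoreOf (h2.map _) (map_subtype_le _) (le_normalizer_map_subtype _)) ?_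
    by_contra h1
    obtain ⟨f, h3, h4⟩ := soc _ (pCoreOf_le M) (le_normalizer_pCoreOf M) h1
    rw [g.cl.fpf' (isPGroup_pCoreOf M) h4 f h3 rfl, orderOf_one] at h4
    omega
  have QT := hQ ▸ hT.pCoreOf_le
  refine ⟨π, _, hπ, hk, g.cl, hT, QT, le_normalizer_map_subtype _, fun e => X1 ?_, ?_, rfl,
    fun h => hT.not_dvd_relIndex ?_, soc, hm⟩
  · exact eq_bot_iff.2 ((le_pCoreOf hX (hM ▸ le_normalizer) hM.ge).trans (hQ.ge.trans e.le))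
  · rw [hQ, ← hM]; exact g.scN X hX X1
  · rwa [le_antisymm h QT, relIndex, subgroupOf, comap_map_eq_self_of_injective M.subtype_injective,
      index_ker, MonoidHom.range_eq_top.2 hπ, card_top]

theorem Gl.exn (g : Gl G) {X N T₀ : Subgroup G} (hX : IsPGroup 2 X) (X1 : X ≠ ⊥) (h1 : X ≤ N)
    (h2 : N ≤ 𝒩(X)) (hN : ¬ Group.IsSolvable N) (hT : IsPGroup 2 T₀) (h3 : T₀ ≤ N) :
    ∃ M Q V T : Subgroup G, N ≤ M ∧ T₀ ≤ T ∧ NS M Q V T ∧ Typ M Q V T := by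
  have := Fact.mk Nat.prime_two
  obtain ⟨_, ⟨Y, y2, y1, rfl, hY⟩, hm⟩ := (Set.toFinite {M : Subgroup G | ∃ Y : Subgroup G,
    IsPGroup 2 Y ∧ Y ≠ ⊥ ∧ 𝒩(Y) = M ∧ N ≤ M}).exists_maximal ⟨_, X, hX, X1, rfl, h2⟩
  obtain ⟨T, t1, t2⟩ := exists_isSylowIn_ge hT (h3.trans hY)
  have ns := fun {L : Type} [Group L] => exn_ns (L := L) g y2 y1
    (fun Z z2 z1 h => le_antisymm (hm ⟨Z, z2, z1, rfl, hY.trans h⟩ h) h) t1
  rcases g.ty _ Y y2 y1 le_normalizer le_rfl with h | h | h | h | h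
  · exact absurd (solvable_of_solvable_injective (inclusion_injective hY)) hN
  · obtain ⟨π, Q, a1, a2, n⟩ := ns h (by rw [Ord6.card_A5]; norm_num)
      fun K k1 k2 => .inl (Ord6.p5_A5 K k1 k2)
    exact ⟨_, Q, _, T, hY, t2, n, .inl (n.tya π a1 a2)⟩
  · obtain ⟨π, Q, a1, a2, n⟩ := ns h (by rw [Nat.card_perm]; simp [Nat.factorial])
      fun K k1 k2 => .inl (Ord6.p5_S5 K k1 k2)
    exact ⟨_, Q, _, T, hY, t2, n, .inr (.inl (n.tys π a1 a2))⟩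
  · have := Sm.simple (G := L32) (.inr (.inl ⟨MulEquiv.refl _⟩))
    obtain ⟨π, Q, a1, a2, n⟩ := ns h (by rw [card_L32]; norm_num) fun K k1 k2 => .inr (by
      rw [k1.eq_bot_or_eq_top.resolve_left k2, card_top, card_L32]; norm_num)
    exact ⟨_, Q, _, T, hY, t2, n, .inr (.inr (n.td_of π a1 a2 tg_L32 inv57_L32 (.inl card_L32)))⟩
  · obtain ⟨π, Q, a1, a2, n⟩ := ns h (by rw [Ord6.card_A6]; norm_num)
      fun K k1 k2 => .inl (Ord6.p5_A6 K k1 k2)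
    exact ⟨_, Q, _, T, hY, t2, n, .inr (.inr (n.td_of π a1 a2 tg_A6 inv57_A6 (.inr Ord6.card_A6)))⟩


end CfsgLib.O8
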