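import Mathlib
import Cfsg.Agent.Lib.O8.C4a
import Cfsg.Agent.Lib.O8.C4d
import Cfsg.Agent.Lib.O8.CI
import Cfsg.Agent.Lib.O8.Exn

/-! The case `T4`. -/

set_option autoImplicit false
set_option linter.unusedSectionVars false

namespace CfsgLib.O8

open Cfsg Subgroup CfsgLib.LAE CfsgLib.PLocal CfsgLib.ZJ CfsgLib.Blocks
open scoped CfsgLib.BG MatrixGroups commutatorElement

universe u

variable {G : Type*} [Group G] [Finite G] {M Q V T Q₁ Q₂ : Subgroup G} {x x₁ x₂ z : G}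

theorem Gl.not_t4 (g : Gl G) (n : NS M Q V T) : ¬ T4 M Q V T Q₁ Q₂ x₁ x₂ := by
  intro d
  have := Fact.mk Nat.prime_two
  have e := d.d4 g n
  have h1 := d.h1
  have h2 := d.h2
  obtain ⟨C, c1, c2, c3, c4⟩ := g.cs T M e.syl (n.nQ' ▸ g.o2 Q n.twoQ n.Q1) (e.cZ ▸ h1.PM n)
  have hb : bau 2 T = Q₂ := by
    refine le_antisymm ((bau_le_centralizer T).trans (by rw [e.zj, e.cl])) fun a ha => ⟨h2.leT ha, ?_⟩
    rw [e.zj, e.cl]; exact ha
  have hC : IsPGroup 2 C := n.two.to_le (c1.trans (bau_le T))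
  have P2 : T ⊔ zpowers x₂ ≤ 𝒩(C) := (h2.nQ n).trans (hb ▸ c3)
  have TN : T ≤ 𝒩(C) := le_sup_left.trans P2
  have eJ : JJ Q₂ = JJ T := thompsonSubgroupOf_eq_of_le h2.leT e.J2
  have sN := e.syl.mono TN le_top
  by_cases hs : Group.IsSolvable 𝒩(C)
  · obtain ⟨U, u1, u2, u3, u4, u5 | ⟨F, hF⟩⟩ := ffs hs sN (g.scN C hC c2)
    · have Ul : U ≤ V ⊓ 𝒞(Q₂) := fun u hu => e.zj ▸ mem_zj n.two (sN.pCoreOf_le (u2 hu))
        (by rw [← pow_two, u3.2 u hu])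
        fun j hj => BG.mem_cent1.2 (mem_centralizer_iff.1 (u5 hj) u hu).symm
      have a : 𝒞(U) = Q₂ := le_antisymm (d.toTG.core2 n (e.cZ ▸ centralizer_le u1)
        (BG.norms_cent (P2.trans u4))) (e.cl.ge.trans (centralizer_le Ul))
      refine c4 (le_trans ?_ (d.nl g n e))
      rw [← e.zj, ← zj_eq_of_J_eq eJ, ← a]
      exact (BG.norms_cent u4).trans (normalizer_le_normalizer_zj _)
    · obtain ⟨w, hw, w1, wc⟩ := hF.prod _ P2
        (eJ ▸ (h2.nQ n).trans (normalizer_le_normalizer_thompsonSubgroupOf _))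
      have wZ : w ∈ ZZ T := mem_omegaZ.2 ⟨sN.pCoreOf_le (u2 hw), mem_centralizer_iff.2
        fun t ht => BG.mem_cent1.1 (wc (mem_sup_left ht)), u3.2 w hw⟩
      rw [d.cz g n e wZ w1] at wc
      exact h1.ne_M n (by rw [← d.gen, sup_eq_left.2 wc])
  obtain ⟨M', Q', V', T', m1, m2, n', ty⟩ := g.exn hC c2 le_normalizer le_rfl hs n.two TN
  obtain rfl : T' = T := e.syl.eq_of_le _ n'.two m2 le_top
  have key : ∀ {Q₃ : Subgroup G} {y : G}, TH M' Q' T' Q₃ y → y ∉ 𝒞(ZZ T') := fun k hy => by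
    rw [e.cZ] at hy
    rcases h1.maxT n le_sup_left (sup_le le_sup_left (zpowers_le.2 hy)) with a | a
    · exact k.xT n' (a ▸ mem_sup_right (mem_zpowers _))
    · have MM : M ≤ M' := d.gen ▸ sup_le (a ▸ k.PM n') (P2.trans m1)
      exact c4 (m1.trans (n'.nQ.trans (n.max Q' n'.twoQ n'.Q1 (MM.trans n'.nQ)).le))
  have hJ := g.ci n' ty
  rcases ty with ⟨y, a⟩ | a | ⟨Q₃, Q₄, y₁, y₂, a⟩
  · have yT := e.nT ▸ a.xT
    exact cia_three n.two a.x3 (mul_mem yT yT)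
  · exact g.not_ts n' a
  · exact (a.mod n' (key a.h1) (key a.h2)).2 (n'.off_of hJ)

end CfsgLib.O8
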