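import Mathlib
import Cfsg.Agent.Lib.O8.C3a
import Cfsg.Agent.Lib.O8.C3c
import Cfsg.Agent.Lib.O8.C3d
import Cfsg.Agent.Lib.O8.C4e
import Cfsg.Agent.Lib.O8.Tdf

/-! The case `T3`. -/

set_option autoImplicit false
set_option linter.unusedSectionVars false

namespace CfsgLib.O8

open Cfsg Subgroup CfsgLib.LAE CfsgLib.PLocal CfsgLib.ZJ CfsgLib.Blocks
open scoped CfsgLib.BG MatrixGroups commutatorElement

universe u

variable {G : Type*} [Group G] [Finite G] {M Q V T Q₁ Q₂ : Subgroup G} {x x₁ x₂ z : G}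

theorem T3.c3e_le {M' Q' V' Q₁' Q₂' : Subgroup G} {x₁' x₂' z' : G} (g : Gl G) (n : NS M Q V T)
    (d : T3 M Q V T Q₁ Q₂ x₁ x₂ z) (n' : NS M' Q' V' T) (d' : T3 M' Q' V' T Q₁' Q₂' x₁' x₂' z') :
    V' ≤ V := by
  have e := d.d3 g n
  have e' := d'.d3 g n'
  have zz : zpowers z' = zpowers z := d'.hZ.symm.trans d.hZ
  have P : T ⊔ zpowers x₁' = T ⊔ zpowers x₁ := by
    rw [← e.cz, ← e'.cz, ← BG.cent_zpowers, ← BG.cent_zpowers, zz]
  have h1 : Q₁ ≤ Q₁' := d'.h1.core n' (n.two.to_le d.h1.leT) (d.h1.leT.trans le_sup_left)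
    (P ▸ d.h1.nQ n)
  exact fun v hv => e.z2 v (n.TM (n'.QT (n'.VQ hv))) (by rw [← pow_two]; exact n'.eaV.2 v hv)
    fun q hq => zz ▸ d'.cm v hv q (h1 (d.h1.le hq))

theorem T3.c3e_eq {M' Q' V' Q₁' Q₂' : Subgroup G} {x₁' x₂' z' : G} (g : Gl G) (n : NS M Q V T)
    (d : T3 M Q V T Q₁ Q₂ x₁ x₂ z) (n' : NS M' Q' V' T) (d' : T3 M' Q' V' T Q₁' Q₂' x₁' x₂' z') :
    M' = M := by
  rw [← n.nV, ← n'.nV, le_antisymm (T3.c3e_le g n d n' d') (T3.c3e_le g n' d' n d)]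

theorem Gl.not_t3 (g : Gl G) (n : NS M Q V T) : ¬ T3 M Q V T Q₁ Q₂ x₁ x₂ z := by
  intro d
  have e := d.d3 g n
  obtain ⟨C, c1, c2, c3, c4⟩ := g.cs T M e.syl (n.nQ' ▸ g.o2 Q n.twoQ n.Q1) (by
    rw [d.hZ, BG.cent_zpowers, e.cz]; exact d.h1.PM n)
  have CT : C ≤ T := c1.trans (bau_le T)
  have C2 := n.two.to_le CT
  have TN : T ≤ 𝒩(C) := (le_normalizer_bau T).trans c3
  refine c4 ?_
  by_cases hs : Group.IsSolvable 𝒩(C)
  · by_cases hJ : JJ T ≤ Q₂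
    · refine d.c3c n e hs (g.scN C C2 c2)
        (((d.h2.nQ n).trans (normalizer_le_normalizer_bau (p := 2) Q₂)).trans ?_)
      rw [bau_eq_of_le ((bau_le_centralizer T).trans ?_) d.h2.leT]
      · exact c3
      · refine le_trans (centralizer_le ?_) e.cl.le
        rw [← e.zq, ← zj_eq_of_J_eq (thompsonSubgroupOf_eq_of_le d.h2.leT hJ)]
        exact omegaZ_le_zj Q₂
    · exact d.c3d n e hJ hs (g.scN C C2 c2) TN
  obtain ⟨M', Q', V', T', h1, h2, n', ty⟩ := g.exn C2 c2 le_normalizer le_rfl hs n.two TN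
  obtain rfl := e.syl.eq_of_le T' n'.two h2 le_top
  have hJ := g.ci n' ty
  rcases ty with ⟨x, t⟩ | t | ⟨Q₁', Q₂', x₁', x₂', t⟩
  · exact (cia_three n.two t.x3 (mul_mem (e.nT ▸ t.xT) (e.nT ▸ t.xT))).elim
  · exact (g.not_ts n' t).elim
  · rcases t.ff n' hJ with t | t | ⟨z', t⟩ | ⟨z', t⟩
    · exact (g.not_t4 n' t).elim
    · exact (g.not_t4 n' t).elim
    · exact T3.c3e_eq g n d n' t ▸ h1
    · exact T3.c3e_eq g n d n' t ▸ h1


end CfsgLib.O8
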